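import Groth.Agent.RelTildeEx.Basic
import Mathlib.RingTheory.GradedAlgebra.Radical
import Mathlib.RingTheory.Finiteness.Ideal

/-! A module with vanishing attached module vanishes in large degrees. -/

set_option autoImplicit false
set_option backward.isDefEq.respectTransparency false
set_option backward.isDefEq.respectTransparency.types false

noncomputable section

universe u

open CategoryTheory CategoryTheory.Limits AlgebraicGeometry TopologicalSpace Opposite DirectSum
open scoped HomogeneousIdeal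

namespace Groth.Agent.RelTildeEx

variable {A σ : Type u} [CommRing A] [SetLike σ A] [AddSubgroupClass σ A] {𝒜 : ℕ → σ} [GradedRing 𝒜]

/-- Components of large degree lie in powers of an ideal containing the degree-one part. -/
theorem decompose_mem_pow (hgen : Subring.closure ((𝒜 0 : Set A) ∪ (𝒜 1 : Set A)) = ⊤) (I : Ideal A)
    (h1 : ∀ x ∈ 𝒜 1, x ∈ I) (a : A) (l : ℕ) : (DirectSum.decompose 𝒜 a l : A) ∈ I ^ l := by
  classical
  have ha : a ∈ Subring.closure ((𝒜 0 : Set A) ∪ (𝒜 1 : Set A)) := hgen ▸ Subring.mem_top a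
  induction ha using Subring.closure_induction generalizing l with
  | mem x hx =>
    rcases hx with hx | hx
    · rcases eq_or_ne 0 l with rfl | hl
      · simp
      · rw [DirectSum.decompose_of_mem_ne _ hx hl]; exact zero_mem _
    · rcases eq_or_ne 1 l with rfl | hl
      · rw [DirectSum.decompose_of_mem_same _ hx, pow_one]; exact h1 x hx
      · rw [DirectSum.decompose_of_mem_ne _ hx hl]; exact zero_mem _
  | zero => simp
  | one =>
    rcases eq_or_ne 0 l with rfl | hl
    · simp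
    · rw [DirectSum.decompose_of_mem_ne _ (SetLike.GradedOne.one_mem) hl]; exact zero_mem _
  | add x y _ _ hx hy =>
    rw [DirectSum.decompose_add, DirectSum.add_apply, AddMemClass.coe_add]
    exact add_mem (hx l) (hy l)
  | neg x _ hx =>
    rw [DirectSum.decompose_neg, DFinsupp.neg_apply, NegMemClass.coe_neg]
    exact neg_mem (hx l)
  | mul x y _ _ hx hy =>
    rw [DirectSum.decompose_mul, DirectSum.coe_mul_apply]
    refine sum_mem fun ij hij => ?_
    obtain ⟨-, h⟩ := Finset.mem_filter.1 hij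
    rw [← h, pow_add]
    exact Ideal.mul_mem_mul (hx _) (hy _)

/-- An element in the radical of homogeneous elements not vanishing with it. -/
theorem mem_radical_of_forall {d : ℕ} (hd : 0 < d) {f : A} (hf : f ∈ 𝒜 d) {E : Set A}
    (hE : ∀ e ∈ E, SetLike.IsHomogeneousElem 𝒜 e)
    (h : ∀ x : ProjectiveSpectrum 𝒜, f ∉ x.asHomogeneousIdeal → ∃ e ∈ E, e ∉ x.asHomogeneousIdeal) :
    f ∈ (Ideal.span E).radical := by
  by_contra hfE
  obtain ⟨P, hP, hEP, hfP⟩ : ∃ P : Ideal A, P.IsPrime ∧ Ideal.span E ≤ P ∧ f ∉ P := by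
    rw [Ideal.radical_eq_sInf, Ideal.mem_sInf] at hfE
    push Not at hfE
    obtain ⟨P, ⟨h1, h2⟩, h3⟩ := hfE
    exact ⟨P, h2, h1, h3⟩
  let Q : HomogeneousIdeal 𝒜 := P.homogeneousCore 𝒜
  have hfQ : f ∉ Q := fun h ↦ hfP (Ideal.toIdeal_homogeneousCore_le 𝒜 P h)
  let x : ProjectiveSpectrum 𝒜 := ⟨Q, hP.homogeneousCore, fun hle ↦
    hfQ (hle (HomogeneousIdeal.mem_irrelevant_of_mem 𝒜 hd hf))⟩
  obtain ⟨e, he, hex⟩ := h x hfQ
  exact hex (Ideal.mem_homogeneousCore_of_homogeneous_of_mem (hE e he) (hEP (Ideal.subset_span he)))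

variable {M τ : Type u} [AddCommGroup M] [Module A M] [SetLike τ M] [AddSubgroupClass τ M] {ℳ : ℕ → τ}
  [SetLike.GradedSMul 𝒜 ℳ] [DirectSum.Decomposition ℳ]

/-- Components of a multiple of a homogeneous element. -/
theorem decompose_smul_right (a : A) {i : ℕ} {m : M} (hm : m ∈ ℳ i) (k : ℕ) :
    (DirectSum.decompose ℳ (a • m) k : M) = if i ≤ k then (DirectSum.decompose 𝒜 a (k - i) : A) • m else 0 := by
  induction a using DirectSum.Decomposition.inductionOn 𝒜 with
  | zero => simp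
  | @homogeneous l a =>
    have ha : (a : A) • m ∈ ℳ (l + i) := SetLike.GradedSMul.smul_mem a.2 hm
    by_cases hl : l + i = k
    · subst hl
      rw [DirectSum.decompose_of_mem_same _ ha, if_pos (Nat.le_add_left i l), Nat.add_sub_cancel,
        DirectSum.decompose_of_mem_same _ a.2]
    · rw [DirectSum.decompose_of_mem_ne _ ha hl]
      split_ifs with hik
      · rw [DirectSum.decompose_of_mem_ne _ a.2 (by omega), zero_smul]
      · rfl
  | add a b ha hb =>
    rw [add_smul, DirectSum.decompose_add, DirectSum.add_apply, AddMemClass.coe_add, ha, hb]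
    split_ifs <;> simp [add_smul]

/-- The module vanishes in large degrees when its attached sheaf is zero. -/
theorem eventually_zero (hgen : Subring.closure ((𝒜 0 : Set A) ∪ (𝒜 1 : Set A)) = ⊤) (T : Finset A)
    (hT : ∀ t ∈ T, t ∈ 𝒜 1) (h1 : ∀ x ∈ 𝒜 1, x ∈ Ideal.span (T : Set A)) (n : ℕ)
    (hfg : (Submodule.span A (⋃ k ∈ Set.Ici n, (ℳ k : Set M))).FG)
    (hzero : ∀ (W : (Proj 𝒜).Opens) (s : Γ(GrMod.tilde 𝒜 ℳ 0, W)), s = 0) :
    ∃ N : ℕ, ∀ k, N ≤ k → ∀ m ∈ ℳ k, m = 0 := by
  classical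
  obtain ⟨G, hGs, hG⟩ := (Submodule.fg_span_iff_fg_span_finset_subset _).1 hfg
  have hdeg : ∀ z : G, ∃ i, (z : M) ∈ ℳ i := fun z => by
    obtain ⟨i, -, hi⟩ := Set.mem_iUnion₂.1 (hGs z.2)
    exact ⟨i, hi⟩
  choose deg hdeg using hdeg
  -- every generator is killed by a power of every degree-one element
  have hkill : ∀ (z : G) (t : A), t ∈ 𝒜 1 → t ∈ Ideal.radical (LinearMap.ker (LinearMap.toSpanSingleton A M (z : M))) := by
    intro z t ht
    refine Ideal.radical_mono ?_ (mem_radical_of_forall (𝒜 := 𝒜) one_pos ht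
      (E := {e | SetLike.IsHomogeneousElem 𝒜 e ∧ e • (z : M) = 0}) (fun e he => he.1) fun x hx => ?_)
    · exact Ideal.span_le.2 fun e he => he.2
    let W : (Proj 𝒜).Opens := ProjectiveSpectrum.basicOpen 𝒜 t
    have htdeg : t ^ deg z ∈ 𝒜 (deg z) := by simpa using SetLike.pow_mem_graded (deg z) ht
    have nin : ∀ y : W, t ^ deg z ∉ y.1.asHomogeneousIdeal := fun y hy => y.2 (y.1.isPrime.mem_of_pow_mem _ hy)
    have h0 := congrArg (fun s => GrMod.val (V := W) s ⟨x, hx⟩)
      (hzero W (frac 𝒜 ℳ 0 W (z : M) (hdeg z) (t ^ deg z) htdeg nin (Or.inl (by simp))))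
    change (LocalizedModule.mk (z : M) ⟨t ^ deg z, nin ⟨x, hx⟩⟩ : GrMod.LocMod 𝒜 (M := M) x) = 0 at h0
    rw [← LocalizedModule.zero_mk (1 : x.asHomogeneousIdeal.toIdeal.primeCompl), LocalizedModule.mk_eq] at h0
    obtain ⟨⟨q, hq⟩, hq'⟩ := h0
    simp only [Submonoid.smul_def, OneMemClass.coe_one, one_smul, smul_zero] at hq'
    obtain ⟨l, hl⟩ : ∃ l, (DirectSum.decompose 𝒜 q l : A) ∉ x.asHomogeneousIdeal := by
      by_contra hne
      push Not at hne
      refine hq ?_
      rw [← DirectSum.sum_support_decompose 𝒜 q]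
      exact sum_mem fun j _ => hne j
    refine ⟨_, ⟨⟨l, SetLike.coe_mem _⟩, ?_⟩, hl⟩
    have h2 := decompose_smul_right (𝒜 := 𝒜) q (hdeg z) (l + deg z)
    rw [hq', if_pos (Nat.le_add_left _ _), Nat.add_sub_cancel, DirectSum.decompose_zero] at h2
    exact h2.symm.trans (ZeroMemClass.coe_zero _)
  have hK : ∀ z : G, ∃ K, Ideal.span (T : Set A) ^ K ≤ LinearMap.ker (LinearMap.toSpanSingleton A M (z : M)) :=
    fun z => Ideal.exists_pow_le_of_le_radical_of_fg (Ideal.span_le.2 fun t ht => hkill z t (hT t ht)) ⟨T, rfl⟩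
  choose K hK using hK
  obtain ⟨B, hB⟩ : ∃ B : ℕ, ∀ z : G, deg z + K z ≤ B := ⟨Finset.univ.sup fun z => deg z + K z,
    fun z => Finset.le_sup (f := fun z => deg z + K z) (Finset.mem_univ z)⟩
  refine ⟨max n B, fun k hk m hm => ?_⟩
  have hmem : m ∈ Submodule.span A (Set.range fun z : G => (z : M)) := by
    rw [show Set.range (fun z : G => (z : M)) = (G : Set M) by ext; simp, ← hG]
    exact Submodule.subset_span (Set.mem_iUnion₂.2 ⟨k, le_of_max_le_left hk, hm⟩)
  obtain ⟨c, hc⟩ := (Submodule.mem_span_range_iff_exists_fun A).1 hmem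
  rw [← DirectSum.decompose_of_mem_same ℳ hm, ← hc, DirectSum.decompose_sum, DFinsupp.finsetSum_apply,
    AddSubmonoidClass.coe_finsetSum]
  refine Finset.sum_eq_zero fun z _ => ?_
  rw [decompose_smul_right (𝒜 := 𝒜) (c z) (hdeg z) k]
  split_ifs with hik
  · have hle : K z ≤ k - deg z := by
      have := hB z; have := le_of_max_le_right hk; omega
    exact hK z (Ideal.pow_le_pow_right hle (decompose_mem_pow hgen _ h1 (c z) (k - deg z)))
  · rfl

end Groth.Agent.RelTildeEx
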