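import Groth.Prelude.Def_RelProj3
import Groth.Agent.ConeDom.Basic
import Groth.Agent.QCohBase.Exact

/-! Local lifting of sections of modules attached to graded modules. -/

set_option autoImplicit false
set_option backward.isDefEq.respectTransparency false
set_option backward.isDefEq.respectTransparency.types false

noncomputable section

universe u

open CategoryTheory CategoryTheory.Limits AlgebraicGeometry TopologicalSpace Opposite DirectSum
open scoped HomogeneousIdeal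

namespace Groth.Agent.RelTildeEx

/-- A homomorphism preserving degrees commutes with taking components. -/
theorem map_decompose {M N τ τ' : Type u} [AddCommGroup M] [AddCommGroup N] [SetLike τ M] [AddSubgroupClass τ M]
    [SetLike τ' N] [AddSubgroupClass τ' N] (ℳ : ℕ → τ) [DirectSum.Decomposition ℳ] (𝒩 : ℕ → τ')
    [DirectSum.Decomposition 𝒩] (u : M →+ N) (hu : ∀ i m, m ∈ ℳ i → u m ∈ 𝒩 i) (m : M) (i : ℕ) :
    (DirectSum.decompose 𝒩 (u m) i : N) = u (DirectSum.decompose ℳ m i : M) := by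
  classical
  induction m using DirectSum.Decomposition.inductionOn ℳ with
  | zero => simp
  | @homogeneous j m =>
    by_cases h : j = i
    · subst h
      rw [DirectSum.decompose_of_mem_same _ (hu _ _ m.2), DirectSum.decompose_of_mem_same _ m.2]
    · rw [DirectSum.decompose_of_mem_ne _ (hu _ _ m.2) h, DirectSum.decompose_of_mem_ne _ m.2 h, map_zero]
  | add a b ha hb => simp [ha, hb]

variable {A σ : Type u} [CommRing A] [SetLike σ A] [AddSubgroupClass σ A] (𝒜 : ℕ → σ) [GradedRing 𝒜]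

/-- A homogeneous element of positive degree outside a point. -/
theorem exists_notMem (y : ProjectiveSpectrum 𝒜) :
    ∃ (e : ℕ) (c : A), 0 < e ∧ c ∈ 𝒜 e ∧ c ∉ y.asHomogeneousIdeal := by
  classical
  by_contra hne
  push Not at hne
  refine y.not_irrelevant_le fun a ha => ?_
  rw [← DirectSum.sum_support_decompose 𝒜 a]
  refine sum_mem fun i _ => ?_
  rcases Nat.eq_zero_or_pos i with rfl | hi0
  · replace ha := (HomogeneousIdeal.mem_irrelevant_iff 𝒜 a).1 ha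
    rw [GradedRing.proj_apply] at ha
    rw [ha]; exact zero_mem _
  · exact hne i _ hi0 (SetLike.coe_mem _)

variable {M τ : Type u} [AddCommGroup M] [Module A M] [SetLike τ M] [AddSubgroupClass τ M] (ℳ : ℕ → τ)
  [SetLike.GradedSMul 𝒜 ℳ]
variable {N τ' : Type u} [AddCommGroup N] [Module A N] [SetLike τ' N] [AddSubgroupClass τ' N] (𝒩 : ℕ → τ')
  [SetLike.GradedSMul 𝒜 𝒩]

/-- The section given by one fraction. -/
def frac (n : ℤ) (V : (Proj 𝒜).Opens) {i j : ℕ} (m : M) (hm : m ∈ ℳ i) (g : A) (hg : g ∈ 𝒜 j)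
    (nin : ∀ x : V, g ∉ x.1.asHomogeneousIdeal) (h : (i : ℤ) = j + n ∨ m = 0) : Γ(GrMod.tilde 𝒜 ℳ n, V) :=
  (show GrMod.sect 𝒜 ℳ n (op V) from
  ⟨fun x ↦ ⟨LocalizedModule.mk m ⟨g, nin x⟩, by
      rcases h with h | h
      · exact Submodule.subset_span ⟨i, j, ⟨m, hm⟩, ⟨g, hg⟩, nin x, h, rfl⟩
      · rw [h, LocalizedModule.zero_mk]; exact zero_mem _⟩,
    fun x ↦ ⟨V, x.2, 𝟙 _, i, j, ⟨m, hm⟩, ⟨g, hg⟩, nin, h, fun _ ↦ rfl⟩⟩)

variable {𝒜 ℳ 𝒩}

/-- A section is near each point one fraction. -/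
theorem exists_frac {n : ℤ} {V : (Proj 𝒜).Opens} (s : Γ(GrMod.tilde 𝒜 ℳ n, V)) (y : V) :
    ∃ (W : (Proj 𝒜).Opens) (hW : W ≤ V) (_ : y.1 ∈ W) (i j : ℕ) (m : M) (_ : m ∈ ℳ i) (g : A) (_ : g ∈ 𝒜 j)
      (nin : ∀ x : W, g ∉ x.1.asHomogeneousIdeal), ((i : ℤ) = j + n ∨ m = 0) ∧
        ∀ x : W, GrMod.val s ⟨x.1, hW x.2⟩ = LocalizedModule.mk m ⟨g, nin x⟩ := by
  obtain ⟨W, hy, iW, i, j, ⟨m, hm⟩, ⟨g, hg⟩, nin, h, w⟩ := (show GrMod.sect 𝒜 ℳ n (op V) from s).2 y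
  exact ⟨W, iW.le, hy, i, j, m, hm, g, hg, nin, h, fun x => w x⟩

/-- Local lifting along a map surjective in large degrees. -/
theorem exists_lift {n : ℤ} (u : M →ₗ[A] N) (hu : ∀ (i : ℕ) (m : M), m ∈ ℳ i → u m ∈ 𝒩 i) (n₀ : ℕ)
    (hsurj : ∀ k, n₀ ≤ k → ∀ m' ∈ 𝒩 k, ∃ m ∈ ℳ k, u m = m')
    {V : (Proj 𝒜).Opens} (s : Γ(GrMod.tilde 𝒜 𝒩 n, V)) (y : V) :
    ∃ (W : (Proj 𝒜).Opens) (hW : W ≤ V) (_ : y.1 ∈ W) (t : Γ(GrMod.tilde 𝒜 ℳ n, W)),
      (GrMod.map 𝒜 u hu n).app W t = (GrMod.tilde 𝒜 𝒩 n).presheaf.map (homOfLE hW).op s := by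
  obtain ⟨W, hW, hy, i, j, m, hm, g, hg, nin, h, w⟩ := exists_frac s y
  obtain ⟨e, c, he, hc, hcy⟩ := exists_notMem 𝒜 y.1
  let W' : (Proj 𝒜).Opens := W ⊓ ProjectiveSpectrum.basicOpen 𝒜 c
  have nin' : ∀ x : W', c ^ n₀ * g ∉ x.1.asHomogeneousIdeal := fun x hx =>
    (x.1.isPrime.mem_or_mem hx).elim (fun h' => x.2.2 (x.1.isPrime.mem_of_pow_mem _ h')) (nin ⟨x.1, x.2.1⟩)
  have hk : n₀ ≤ n₀ • e + i := by
    rw [smul_eq_mul]; exact le_trans (Nat.le_mul_of_pos_right _ he) (Nat.le_add_right _ _)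
  obtain ⟨l, hl, hul⟩ : ∃ l ∈ ℳ (n₀ • e + i), u l = c ^ n₀ • m :=
    hsurj _ hk _ (SetLike.GradedSMul.smul_mem (SetLike.pow_mem_graded n₀ hc) hm)
  rcases h with h | h
  · refine ⟨W', inf_le_left.trans hW, ⟨hy, hcy⟩, frac 𝒜 ℳ n W' l hl (c ^ n₀ * g)
      (SetLike.mul_mem_graded (SetLike.pow_mem_graded n₀ hc) hg) nin' (Or.inl (by rw [smul_eq_mul]; push_cast; omega)), ?_⟩
    refine Subtype.ext (funext fun x => Subtype.ext ?_)
    show GrMod.locMap u x.1 (LocalizedModule.mk l ⟨c ^ n₀ * g, nin' x⟩) = GrMod.val s ⟨x.1, hW x.2.1⟩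
    rw [GrMod.locMap_mk, hul, w ⟨x.1, x.2.1⟩, LocalizedModule.mk_eq]
    exact ⟨1, by simp [Submonoid.smul_def, smul_smul, mul_comm]⟩
  · refine ⟨W, hW, hy, 0, ?_⟩
    rw [map_zero]
    refine Subtype.ext (funext fun x => Subtype.ext ?_)
    show (0 : GrMod.LocMod 𝒜 (M := N) x.1) = GrMod.val s ⟨x.1, hW x.2⟩
    rw [w x, h, LocalizedModule.zero_mk]

/-- Local lifting of elements of the kernel. -/
theorem exists_lift_exact {L τ'' : Type u} [AddCommGroup L] [Module A L] [SetLike τ'' L] [AddSubgroupClass τ'' L]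
    {ℒ : ℕ → τ''} [SetLike.GradedSMul 𝒜 ℒ] [DirectSum.Decomposition ℳ] [DirectSum.Decomposition 𝒩]
    [DirectSum.Decomposition ℒ]
    {n : ℤ} (u : M →ₗ[A] N) (hu : ∀ (i : ℕ) (m : M), m ∈ ℳ i → u m ∈ 𝒩 i)
    (v : N →ₗ[A] L) (hv : ∀ (i : ℕ) (m : N), m ∈ 𝒩 i → v m ∈ ℒ i) (hex : Function.Exact u v)
    {V : (Proj 𝒜).Opens} (s : Γ(GrMod.tilde 𝒜 𝒩 n, V)) (hs : (GrMod.map 𝒜 v hv n).app V s = 0) (y : V) :
    ∃ (W : (Proj 𝒜).Opens) (hW : W ≤ V) (_ : y.1 ∈ W) (t : Γ(GrMod.tilde 𝒜 ℳ n, W)),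
      (GrMod.map 𝒜 u hu n).app W t = (GrMod.tilde 𝒜 𝒩 n).presheaf.map (homOfLE hW).op s := by
  classical
  obtain ⟨W, hW, hy, i, j, m, hm, g, hg, nin, h, w⟩ := exists_frac s y
  rcases h with h | h
  · have h0 : GrMod.locMap v y.1 (GrMod.val s y) = 0 := by
      rw [← GrMod.map_app_val (u := v) (hu := hv), hs]
      rfl
    rw [show GrMod.val s y = _ from w ⟨y.1, hy⟩, GrMod.locMap_mk,
      ← LocalizedModule.zero_mk (1 : y.1.asHomogeneousIdeal.toIdeal.primeCompl), LocalizedModule.mk_eq] at h0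
    obtain ⟨⟨q, hq⟩, hq'⟩ := h0
    simp only [Submonoid.smul_def, OneMemClass.coe_one, one_smul, smul_zero] at hq'
    obtain ⟨k, hk⟩ : ∃ k, (DirectSum.decompose 𝒜 q k : A) ∉ y.1.asHomogeneousIdeal := by
      by_contra hne
      push Not at hne
      refine hq ?_
      rw [← DirectSum.sum_support_decompose 𝒜 q]
      exact sum_mem fun l _ => hne l
    set c : A := (DirectSum.decompose 𝒜 q k : A)
    have hc : c ∈ 𝒜 k := SetLike.coe_mem _
    have hcv : c • v m = 0 := by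
      let φ : A →+ L := AddMonoidHom.mk' (fun a => a • v m) fun a b => add_smul a b _
      have hφ : ∀ a, (DirectSum.decompose ℒ (a • v m) (k + i) : L) = (DirectSum.decompose 𝒜 a k : A) • v m := by
        intro a
        induction a using DirectSum.Decomposition.inductionOn 𝒜 with
        | zero => simp
        | @homogeneous l a =>
          have ha : (a : A) • v m ∈ ℒ (l + i) := SetLike.GradedSMul.smul_mem a.2 (hv _ _ hm)
          by_cases hl : l = k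
          · subst hl
            rw [DirectSum.decompose_of_mem_same _ ha, DirectSum.decompose_of_mem_same _ a.2]
          · rw [DirectSum.decompose_of_mem_ne _ ha (by omega), DirectSum.decompose_of_mem_ne _ a.2 hl, zero_smul]
        | add a b ha hb => simp [add_smul, ha, hb]
      rw [← hφ q, hq', DirectSum.decompose_zero]
      rfl
    obtain ⟨l₀, hl₀⟩ := (hex (c • m)).1 (by rw [map_smul, hcv])
    let l : M := (DirectSum.decompose ℳ l₀ (k + i) : M)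
    have hl : u l = c • m := by
      refine (map_decompose ℳ 𝒩 u.toAddMonoidHom hu l₀ (k + i)).symm.trans ?_
      show (DirectSum.decompose 𝒩 (u l₀) (k + i) : N) = c • m
      have hcm : c • m ∈ 𝒩 (k + i) := SetLike.GradedSMul.smul_mem hc hm
      rw [hl₀, DirectSum.decompose_of_mem_same _ hcm]
    let W' : (Proj 𝒜).Opens := W ⊓ ProjectiveSpectrum.basicOpen 𝒜 c
    have nin' : ∀ x : W', c * g ∉ x.1.asHomogeneousIdeal := fun x hx =>
      (x.1.isPrime.mem_or_mem hx).elim x.2.2 (nin ⟨x.1, x.2.1⟩)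
    refine ⟨W', inf_le_left.trans hW, ⟨hy, hk⟩, frac 𝒜 ℳ n W' l (SetLike.coe_mem _) (c * g)
      (SetLike.mul_mem_graded hc hg) nin' (Or.inl (by push_cast; omega)), ?_⟩
    refine Subtype.ext (funext fun x => Subtype.ext ?_)
    show GrMod.locMap u x.1 (LocalizedModule.mk l ⟨c * g, nin' x⟩) = GrMod.val s ⟨x.1, hW x.2.1⟩
    rw [GrMod.locMap_mk, hl, w ⟨x.1, x.2.1⟩, LocalizedModule.mk_eq]
    exact ⟨1, by simp [Submonoid.smul_def, smul_smul, mul_comm]⟩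
  · refine ⟨W, hW, hy, 0, ?_⟩
    rw [map_zero]
    refine Subtype.ext (funext fun x => Subtype.ext ?_)
    show (0 : GrMod.LocMod 𝒜 (M := N) x.1) = GrMod.val s ⟨x.1, hW x.2⟩
    rw [w x, h, LocalizedModule.zero_mk]

section sheaf

open Groth.Agent.QCohBase

variable {X : Scheme.{u}}

/-- A map of modules which is surjective near every point on sections is an epimorphism. -/
theorem epi_of_local {M N : X.Modules} (φ : M ⟶ N)
    (h : ∀ (V : X.Opens) (s : Γ(N, V)) (x : V), ∃ (W : X.Opens) (hW : W ≤ V) (_ : x.1 ∈ W) (t : Γ(M, W)),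
      φ.app W t = N.presheaf.map (homOfLE hW).op s) : Epi φ := by
  haveI : (modAb X).Faithful := inferInstanceAs (SheafOfModules.toSheaf X.ringCatSheaf).Faithful
  haveI : Epi ((modAb X).map φ) := by
    refine (CategoryTheory.Sheaf.isLocallySurjective_iff_epi' (φ := (modAb X).map φ)).1 ?_
    refine (TopCat.Presheaf.isLocallySurjective_iff ((modAb X).map φ).hom).2 fun U t x hx => ?_
    obtain ⟨W, hW, hxW, t', ht'⟩ := h U t ⟨x, hx⟩
    exact ⟨W, hW, ⟨t', ht'⟩, hxW⟩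
  exact (modAb X).epi_of_epi_map this

theorem exact_of_local {T : ShortComplex X.Modules}
    (h : ∀ (V : X.Opens) (s : Γ(T.X₂, V)), T.g.app V s = 0 → ∀ x : V,
      ∃ (W : X.Opens) (hW : W ≤ V) (_ : x.1 ∈ W) (t : Γ(T.X₁, W)),
        T.f.app W t = T.X₂.presheaf.map (homOfLE hW).op s) : T.Exact := by
  rw [T.exact_iff_epi_kernel_lift]
  refine epi_of_local _ fun V k x => ?_
  obtain ⟨W, hW, hxW, t, ht⟩ := h V ((kernel.ι T.g).app V k) (by
    rw [← ConcreteCategory.comp_apply, ← Scheme.Modules.Hom.comp_app, kernel.condition]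
    rfl) x
  refine ⟨W, hW, hxW, t, app_injective_of_mono (kernel.ι T.g) W ?_⟩
  rw [← ConcreteCategory.comp_apply, ← Scheme.Modules.Hom.comp_app, kernel.lift_ι, ht]
  exact (ConcreteCategory.congr_hom ((kernel.ι T.g).mapPresheaf.naturality (homOfLE hW).op) k).symm

end sheaf

section rel

variable {Y P : Scheme.{u}} {𝒮 : RelProj.QCGrAlg Y} {p : P ⟶ Y}
  {chart : ∀ (U : Y.Opens) (hU : IsAffineOpen U), (((p ⁻¹ᵁ U : P.Opens) : Scheme.{u}) ≅ Proj (𝒮.deg U hU))}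
  {n : ℤ} {ℳ 𝒩 : RelProj.GrModule 𝒮} {F G : P.Modules}
  {lam : ∀ (U : Y.Opens) (hU : IsAffineOpen U),
    F ⟶ (Scheme.Modules.pushforward (RelProj.emb p chart U hU)).obj (GrMod.tilde (𝒮.deg U hU) (ℳ.deg U hU) n)}
  (hF : RelProj.IsRelTilde 𝒮 p chart ℳ n F lam)
  {lam' : ∀ (U : Y.Opens) (hU : IsAffineOpen U),
    G ⟶ (Scheme.Modules.pushforward (RelProj.emb p chart U hU)).obj (GrMod.tilde (𝒮.deg U hU) (𝒩.deg U hU) n)}
  (hG : RelProj.IsRelTilde 𝒮 p chart 𝒩 n G lam')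

include hF hG in
/-- Transport of a local lift on a chart to the relative `Proj`. -/
theorem exists_lift_of_chart (U : Y.Opens) (hU : IsAffineOpen U)
    (φ : GrMod.tilde (𝒮.deg U hU) (ℳ.deg U hU) n ⟶ GrMod.tilde (𝒮.deg U hU) (𝒩.deg U hU) n) (ut : F ⟶ G)
    (hut : ut ≫ lam' U hU = lam U hU ≫ (Scheme.Modules.pushforward (RelProj.emb p chart U hU)).map φ)
    {V : P.Opens} (s : Γ(G, V)) (x : V) (hxU : p x.1 ∈ U) (hVU : V ≤ p ⁻¹ᵁ U)
    (h : ∀ y : ↥(RelProj.emb p chart U hU ⁻¹ᵁ V), ∃ (W : (Proj (𝒮.deg U hU)).Opens)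
      (hW : W ≤ RelProj.emb p chart U hU ⁻¹ᵁ V) (_ : y.1 ∈ W)
      (t : Γ(GrMod.tilde (𝒮.deg U hU) (ℳ.deg U hU) n, W)),
      φ.app W t = (GrMod.tilde (𝒮.deg U hU) (𝒩.deg U hU) n).presheaf.map (homOfLE hW).op
        ((lam' U hU).app V s : Γ(GrMod.tilde (𝒮.deg U hU) (𝒩.deg U hU) n, RelProj.emb p chart U hU ⁻¹ᵁ V))) :
    ∃ (O : P.Opens) (hO : O ≤ V) (_ : x.1 ∈ O) (f : Γ(F, O)),
      ut.app O f = G.presheaf.map (homOfLE hO).op s := by
  let ε := RelProj.emb p chart U hU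
  let y₀ : Proj (𝒮.deg U hU) := (chart U hU).hom ⟨x.1, hxU⟩
  have hy₀ : ε y₀ = x.1 := by
    show ((chart U hU).inv ≫ (p ⁻¹ᵁ U).ι) ((chart U hU).hom ⟨x.1, hxU⟩) = x.1
    rw [← Scheme.Hom.comp_apply, Iso.hom_inv_id_assoc]
    rfl
  obtain ⟨W, hW, hyW, t, ht⟩ := h ⟨y₀, show ε y₀ ∈ V by rw [hy₀]; exact x.2⟩
  have hOV : ε ''ᵁ W ≤ V := by
    rintro _ ⟨w, hw, rfl⟩
    exact hW hw
  have hpre : ε ⁻¹ᵁ (ε ''ᵁ W) = W := ε.preimage_image_eq W
  obtain ⟨f, hf⟩ := (hF.bijective U hU (ε ''ᵁ W) (hOV.trans hVU)).2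
    ((GrMod.tilde (𝒮.deg U hU) (ℳ.deg U hU) n).presheaf.map (homOfLE hpre.le).op t)
  refine ⟨ε ''ᵁ W, hOV, ⟨y₀, hyW, hy₀⟩, f, (hG.bijective U hU (ε ''ᵁ W) (hOV.trans hVU)).1 ?_⟩
  have h1 : (lam' U hU).app (ε ''ᵁ W) (ut.app (ε ''ᵁ W) f) =
      φ.app (ε ⁻¹ᵁ (ε ''ᵁ W)) ((lam U hU).app (ε ''ᵁ W) f) := by
    rw [← ConcreteCategory.comp_apply, ← Scheme.Modules.Hom.comp_app, hut]
    rfl
  rw [h1, hf]
  have h2 := ConcreteCategory.congr_hom (φ.mapPresheaf.naturality (homOfLE hpre.le).op) t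
  refine h2.trans ?_
  show (GrMod.tilde (𝒮.deg U hU) (𝒩.deg U hU) n).presheaf.map (homOfLE hpre.le).op (φ.app W t) = _
  rw [ht]
  refine Eq.trans ?_ (ConcreteCategory.congr_hom ((lam' U hU).mapPresheaf.naturality (homOfLE hOV).op) s).symm
  rw [← ConcreteCategory.comp_apply, ← Functor.map_comp]
  rfl

end rel

end Groth.Agent.RelTildeEx
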